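import Cfsg.Agent.Lib.Fischer.L23.D

set_option autoImplicit false
set_option maxRecDepth 100000

namespace Cfsg.Agent.Fi.L23

open Cfsg.Agent.PC

theorem p0 : Nat.beq (rng f1 (nat_lit 0) (nat_lit 64)) (nat_lit 0) = true := by decide +kernel
theorem p64 : Nat.beq (rng f1 (nat_lit 64) (nat_lit 64)) (nat_lit 0) = true := by decide +kernel
theorem p128 : Nat.beq (rng f1 (nat_lit 128) (nat_lit 64)) (nat_lit 0) = true := by decide +kernel
theorem p192 : Nat.beq (rng f1 (nat_lit 192) (nat_lit 64)) (nat_lit 0) = true := by decide +kernel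
theorem p256 : Nat.beq (rng f1 (nat_lit 256) (nat_lit 32)) (nat_lit 0) = true := by decide +kernel
theorem c0 : Nat.beq (rng f2 (nat_lit 0) (nat_lit 2400)) (nat_lit 0) = true := by decide +kernel
theorem c2400 : Nat.beq (rng f2 (nat_lit 2400) (nat_lit 1110)) (nat_lit 0) = true := by decide +kernel
theorem a21x0 : Nat.beq (rng a21 (nat_lit 0) (nat_lit 300)) (nat_lit 0) = true := by decide +kernel
theorem a21x300 : Nat.beq (rng a21 (nat_lit 300) (nat_lit 300)) (nat_lit 0) = true := by decide +kernel
theorem a21x600 : Nat.beq (rng a21 (nat_lit 600) (nat_lit 300)) (nat_lit 0) = true := by decide +kernel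
theorem a21x900 : Nat.beq (rng a21 (nat_lit 900) (nat_lit 300)) (nat_lit 0) = true := by decide +kernel
theorem a21x1200 : Nat.beq (rng a21 (nat_lit 1200) (nat_lit 300)) (nat_lit 0) = true := by decide +kernel
theorem a21x1500 : Nat.beq (rng a21 (nat_lit 1500) (nat_lit 300)) (nat_lit 0) = true := by decide +kernel
theorem a21x1800 : Nat.beq (rng a21 (nat_lit 1800) (nat_lit 300)) (nat_lit 0) = true := by decide +kernel
theorem a21x2100 : Nat.beq (rng a21 (nat_lit 2100) (nat_lit 300)) (nat_lit 0) = true := by decide +kernel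
theorem a21x2400 : Nat.beq (rng a21 (nat_lit 2400) (nat_lit 300)) (nat_lit 0) = true := by decide +kernel
theorem a21x2700 : Nat.beq (rng a21 (nat_lit 2700) (nat_lit 300)) (nat_lit 0) = true := by decide +kernel
theorem a21x3000 : Nat.beq (rng a21 (nat_lit 3000) (nat_lit 300)) (nat_lit 0) = true := by decide +kernel
theorem a21x3300 : Nat.beq (rng a21 (nat_lit 3300) (nat_lit 210)) (nat_lit 0) = true := by decide +kernel
theorem b21x0 : Nat.beq (rng b21 (nat_lit 0) (nat_lit 3510)) (nat_lit 0) = true := by decide +kernel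

end Cfsg.Agent.Fi.L23
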