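import Cfsg.Agent.Lib.Fischer.L23.R0
import Cfsg.Agent.Lib.Fischer.X22.Tr

set_option autoImplicit false
set_option maxRecDepth 100000

namespace Cfsg.Agent.Fi.L23

open Cfsg.Agent.PC

theorem hf1 : ∀ i < 288, f1 i = 0 := by
  have h := zero_lt_zero f1
  have h := zero_lt_add (a := (nat_lit 0)) (n := (nat_lit 64)) (b := (nat_lit 64)) h p0 rfl
  have h := zero_lt_add (a := (nat_lit 64)) (n := (nat_lit 64)) (b := (nat_lit 128)) h p64 rfl
  have h := zero_lt_add (a := (nat_lit 128)) (n := (nat_lit 64)) (b := (nat_lit 192)) h p128 rfl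
  have h := zero_lt_add (a := (nat_lit 192)) (n := (nat_lit 64)) (b := (nat_lit 256)) h p192 rfl
  have h := zero_lt_add (a := (nat_lit 256)) (n := (nat_lit 32)) (b := (nat_lit 288)) h p256 rfl
  exact h
theorem hf2 : ∀ i < 3510, f2 i = 0 := by
  have h := zero_lt_zero f2
  have h := zero_lt_add (a := (nat_lit 0)) (n := (nat_lit 2400)) (b := (nat_lit 2400)) h c0 rfl
  have h := zero_lt_add (a := (nat_lit 2400)) (n := (nat_lit 1110)) (b := (nat_lit 3510)) h c2400 rfl
  exact h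
theorem ha21 : ∀ i < 3510, a21 i = 0 := by
  have h := zero_lt_zero a21
  have h := zero_lt_add (a := (nat_lit 0)) (n := (nat_lit 300)) (b := (nat_lit 300)) h a21x0 rfl
  have h := zero_lt_add (a := (nat_lit 300)) (n := (nat_lit 300)) (b := (nat_lit 600)) h a21x300 rfl
  have h := zero_lt_add (a := (nat_lit 600)) (n := (nat_lit 300)) (b := (nat_lit 900)) h a21x600 rfl
  have h := zero_lt_add (a := (nat_lit 900)) (n := (nat_lit 300)) (b := (nat_lit 1200)) h a21x900 rfl
  have h := zero_lt_add (a := (nat_lit 1200)) (n := (nat_lit 300)) (b := (nat_lit 1500)) h a21x1200 rfl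
  have h := zero_lt_add (a := (nat_lit 1500)) (n := (nat_lit 300)) (b := (nat_lit 1800)) h a21x1500 rfl
  have h := zero_lt_add (a := (nat_lit 1800)) (n := (nat_lit 300)) (b := (nat_lit 2100)) h a21x1800 rfl
  have h := zero_lt_add (a := (nat_lit 2100)) (n := (nat_lit 300)) (b := (nat_lit 2400)) h a21x2100 rfl
  have h := zero_lt_add (a := (nat_lit 2400)) (n := (nat_lit 300)) (b := (nat_lit 2700)) h a21x2400 rfl
  have h := zero_lt_add (a := (nat_lit 2700)) (n := (nat_lit 300)) (b := (nat_lit 3000)) h a21x2700 rfl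
  have h := zero_lt_add (a := (nat_lit 3000)) (n := (nat_lit 300)) (b := (nat_lit 3300)) h a21x3000 rfl
  have h := zero_lt_add (a := (nat_lit 3300)) (n := (nat_lit 210)) (b := (nat_lit 3510)) h a21x3300 rfl
  exact h
theorem hb21 : ∀ i < 3510, b21 i = 0 := by
  have h := zero_lt_zero b21
  have h := zero_lt_add (a := (nat_lit 0)) (n := (nat_lit 3510)) (b := (nat_lit 3510)) h b21x0 rfl
  exact h
theorem hW : lin (fun j => lettE 16 (W j)) (nat_lit 0) 9 = 0 := by decide +kernel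
theorem sel {K : Type*} [Group K] [Finite K] {D : Set K} {pt : ℕ → K} (F : FD D X22.T X22.P 3510 16 pt)
    (hK : Nat.card K = 64561751654400) {S : Set K} (hS : S ⊆ D) (hcl : ∀ x ∈ S, ∀ y ∈ S, x * y * x⁻¹ ∈ S)
    (h1 : 3 ^ 9 * 13 ∣ Nat.card (↥(Subgroup.closure S) ⧸ Subgroup.center ↥(Subgroup.closure S)))
    (h2 : ¬ 11 ∣ Nat.card (↥(Subgroup.closure S) ⧸ Subgroup.center ↥(Subgroup.closure S))) :
    ∃ qt : ℕ → K, FD D X22.T X22.P 3510 16 qt ∧ S = qt '' {i | i < 3510 ∧ S23.Sf i = 1} := by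
  have h3 := h1.trans (Subgroup.card_quotient_dvd_card _)
  have hO : ∀ c < 3510, ltE (O c) 6 = 0 := fun c hc => (add_eq_zero' (add_eq_zero' (hf2 c hc)).2).1
  have hc : ∀ c < 3510, clsE (fun j => tr X22.T (W j)) 9 O rt U c = 0 := fun c hc => (add_eq_zero' (hf2 c hc)).1
  obtain ⟨qt, F', M, hM, h4⟩ := sel_main F X22.dsc (X22.base F) X22.Bs_lt hcl (a := 9) (by rw [hK]; norm_num)
    ((Dvd.intro _ rfl).trans h3) hW (by norm_num) hf1 hc hO (Ru := Ru) (L := L) (by decide +kernel) (by decide +kernel)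
  have h5 : 13 ∣ Nat.card (Subgroup.closure S) := (Dvd.intro_left _ rfl).trans h3
  have : Fact (Nat.Prime 13) := ⟨by decide⟩
  have h6 := sel_small F' hS hcl h4 h5 fun x hx e => by
    have := card_cen F.tt (X22.trans F) hx
    rw [F.ncard, hK] at this
    omega
  simp only [L, List.mem_cons, List.not_mem_nil, or_false] at hM
  rcases hM with rfl | rfl | rfl | rfl | rfl | rfl
  · rw [sel_empty F' hS h4] at h5; omega
  · exact absurd h6 (by decide +kernel)
  · exact absurd h6 (by decide +kernel)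
  · exact ⟨qt, F', sel_fin (ρ := fun i => i) F' hS (fun _ h => h) h4 fun c hc => (add_eq_zero' (add_eq_zero' (hf2 c hc)).2).2⟩
  · obtain ⟨F1, t1⟩ := F'.word (w := w21) (by decide +kernel)
    have F2 := F1.auto X22.dsc ha21
    exact ⟨_, F2, sel_fin (ρ := fun i => tr X22.T w21 (pi21 i)) F2 hS (fun i hi => t1 _ (auto_lt ha21 i hi)) h4 hb21⟩
  · rw [sel_all (n := 6) F' h4 hO, hK] at h2; omega

end Cfsg.Agent.Fi.L23
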